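import Mathlib

/-!
A fast code for square matrices over the integers modulo 13: one natural number per row, in lanes of
32 bits, with a lanewise Barrett reduction.  Only left multiplication by sparse matrices is needed.
-/

set_option autoImplicit false
set_option exponentiation.threshold 3000

namespace Cfsg.Agent.Lib.Fi22Rep78

/-- The dimension. -/
abbrev dim : ℕ := 78

abbrev Mat78 : Type := Matrix (Fin 78) (Fin 78) (ZMod 13)

/-- Packing of `n` lanes. -/
def pk : ℕ → (ℕ → ℕ) → ℕ
  | 0, _ => 0
  | n + 1, v => v 0 + 4294967296 * pk n (fun j => v (j + 1))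

theorem pk_congr {n : ℕ} {u v : ℕ → ℕ} (h : ∀ j < n, u j = v j) : pk n u = pk n v := by
  induction n generalizing u v with
  | zero => rfl
  | succ n ih =>
    simp only [pk]
    rw [h 0 (by omega), ih (u := fun j => u (j + 1)) (v := fun j => v (j + 1))
      (fun j hj => h (j + 1) (by omega))]

theorem pk_add (n : ℕ) (u v : ℕ → ℕ) : pk n u + pk n v = pk n (fun j => u j + v j) := by
  induction n generalizing u v with
  | zero => rfl
  | succ n ih => simp only [pk, ← ih]; ring

theorem pk_smul (n c : ℕ) (v : ℕ → ℕ) : c * pk n v = pk n (fun j => c * v j) := by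
  induction n generalizing v with
  | zero => simp [pk]
  | succ n ih => simp only [pk, ← ih]; ring

theorem pk_zero (n : ℕ) : pk n (fun _ => 0) = 0 := by
  induction n with
  | zero => rfl
  | succ n ih => simp [pk, ih]

theorem pk_sub (n : ℕ) (u v : ℕ → ℕ) (h : ∀ j < n, v j ≤ u j) :
    pk n u - pk n v = pk n (fun j => u j - v j) := by
  have e : pk n u = pk n (fun j => u j - v j) + pk n v := by
    rw [pk_add]; exact pk_congr fun j hj => (Nat.sub_add_cancel (h j hj)).symm
  omega

theorem pk_inj {n : ℕ} {u v : ℕ → ℕ} (hu : ∀ j < n, u j < 4294967296) (hv : ∀ j < n, v j < 4294967296)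
    (h : pk n u = pk n v) : ∀ j < n, u j = v j := by
  induction n generalizing u v with
  | zero => intro j hj; omega
  | succ n ih =>
    simp only [pk] at h
    have h0 := hu 0 (by omega)
    have h1 := hv 0 (by omega)
    have e0 : u 0 = v 0 := by omega
    have e1 := ih (u := fun j => u (j + 1)) (v := fun j => v (j + 1))
      (fun j hj => hu (j + 1) (by omega)) (fun j hj => hv (j + 1) (by omega)) (by omega)
    intro j hj
    cases j with
    | zero => exact e0
    | succ j => exact e1 j (by omega)

theorem pk_shiftAnd (n : ℕ) (u : ℕ → ℕ) (hu : ∀ j < n, u j < 4294967296) :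
    Nat.land (Nat.shiftRight (pk n u) 18) (pk n fun _ => 16383) = pk n fun j => u j / 262144 := by
  induction n generalizing u with
  | zero => simp [pk]
  | succ n ih =>
    have ih' : (pk n (fun j => u (j + 1))) >>> 18 &&& pk n (fun _ => 16383) =
        pk n fun j => u (j + 1) / 262144 :=
      ih (fun j => u (j + 1)) fun j hj => hu (j + 1) (by omega)
    show (pk (n + 1) u) >>> 18 &&& pk (n + 1) (fun _ => 16383) = _
    simp only [pk]
    set X := pk n (fun j => u (j + 1))
    set M := pk n (fun _ : ℕ => (16383 : ℕ))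
    have h0 := hu 0 (by omega)
    apply Nat.eq_of_testBit_eq
    intro i
    rw [Nat.testBit_and, Nat.shiftRight_eq_div_pow, ← ih']
    have eA : (u 0 + 4294967296 * X) / 2 ^ 18 = 2 ^ 14 * X + u 0 / 262144 := by omega
    rw [eA, Nat.add_comm 16383, Nat.add_comm (u 0 / 262144),
      show (4294967296 : ℕ) = 2 ^ 32 from rfl, Nat.testBit_two_pow_mul_add X (by omega) i,
      Nat.testBit_two_pow_mul_add M (by norm_num) i,
      Nat.testBit_two_pow_mul_add _ (by omega) i]
    by_cases hi : i < 32
    · simp only [hi, if_true]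
      by_cases hi' : i < 14
      · simp only [hi', if_true]
        rw [show (16383 : ℕ) = 2 ^ 14 - 1 from rfl, Nat.testBit_two_pow_sub_one]
        simp [hi']
      · simp only [hi', if_false]
        rw [show (16383 : ℕ) = 2 ^ 14 - 1 from rfl, Nat.testBit_two_pow_sub_one]
        have : (u 0 / 262144).testBit i = false :=
          Nat.testBit_eq_false_of_lt (lt_of_lt_of_le (by omega : u 0 / 262144 < 2 ^ 14)
            (Nat.pow_le_pow_right (by norm_num) (by omega)))
        simp [hi', this]
    · simp only [hi, if_false]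
      have hi' : ¬ i < 14 := by omega
      simp only [hi', if_false]
      rw [Nat.testBit_and, Nat.testBit_shiftRight, show i - 14 = 18 + (i - 32) by omega]

/-- Lanewise reduction modulo 13. -/
def red (mask r : ℕ) : ℕ :=
  Nat.sub r (Nat.mul 13 (Nat.land (Nat.shiftRight (Nat.mul r 20165) 18) mask))

/-- The reduction mask. -/
def msk : ℕ := pk 78 fun _ => 16383

theorem barrett_ok : ((List.range 12169).all fun x =>
    Nat.beq (Nat.sub x (Nat.mul 13 (Nat.div (Nat.mul x 20165) 262144))) (Nat.mod x 13) &&
      Nat.ble (Nat.mul 13 (Nat.div (Nat.mul x 20165) 262144)) x) = true := by decide +kernel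

theorem red_pk (u : ℕ → ℕ) (hu : ∀ j < 78, u j < 12169) :
    red msk (pk 78 u) = pk 78 fun j => u j % 13 := by
  show pk 78 u - 13 * Nat.land (Nat.shiftRight (pk 78 u * 20165) 18) msk = _
  have hb : ∀ j < 78, u j - 13 * (u j * 20165 / 262144) = u j % 13 ∧
      13 * (u j * 20165 / 262144) ≤ u j := by
    intro j hj
    have := List.all_eq_true.1 barrett_ok _ (List.mem_range.2 (hu j hj))
    rw [Bool.and_eq_true, Nat.beq_eq, Nat.ble_eq] at this
    exact this
  rw [Nat.mul_comm (pk 78 u), pk_smul, msk,
    pk_shiftAnd 78 _ (fun j hj => by have := hu j hj; omega), pk_smul,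
    pk_sub 78 _ _ (fun j hj => by rw [Nat.mul_comm 20165]; exact (hb j hj).2)]
  exact pk_congr fun j hj => by rw [Nat.mul_comm 20165]; exact (hb j hj).1

attribute [local irreducible] pk

/-- A sparse row times a coded matrix. -/
def rowSum : List (ℕ × ℕ) → List ℕ → ℕ
  | [], _ => 0
  | (k, c) :: l, M => Nat.add (Nat.mul c (M.getD k 0)) (rowSum l M)

/-- A sparse matrix times a coded matrix, reduced. -/
def step (mask : ℕ) (g : List (List (ℕ × ℕ))) (M : List ℕ) : List ℕ :=
  g.map fun row => red mask (rowSum row M)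

/-- Side conditions on a sparse matrix. -/
def okGen (g : List (List (ℕ × ℕ))) : Bool :=
  Nat.beq g.length 78 && g.all fun row =>
    Nat.ble row.length 78 && row.all fun e => Nat.blt e.1 78 && Nat.blt e.2 13

/-- The entry of a sparse row. -/
def rowVal (row : List (ℕ × ℕ)) (k : ℕ) : ZMod 13 :=
  ((row.filter fun e => decide (e.1 = k)).map fun e => (e.2 : ZMod 13)).sum

/-- The matrix given by sparse data. -/
def genMat (g : List (List (ℕ × ℕ))) : Mat78 :=
  Matrix.of fun i k => rowVal (g.getD i.1 []) k.1

/-- The entry of a matrix as a number, zero outside the range. -/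
def ent (A : Mat78) (i j : ℕ) : ℕ :=
  if h : i < 78 ∧ j < 78 then (A ⟨i, h.1⟩ ⟨j, h.2⟩).val else 0

theorem ent_lt (A : Mat78) (i j : ℕ) : ent A i j < 13 := by
  unfold ent
  split
  · exact ZMod.val_lt _
  · omega

theorem ent_eq (A : Mat78) (i j : Fin 78) : ent A i.1 j.1 = (A i j).val := by
  simp [ent, i.2, j.2]

/-- The code of a matrix. -/
def code (A : Mat78) : List ℕ := (List.range 78).map fun i => pk 78 (ent A i)

theorem code_getD (A : Mat78) {i : ℕ} (hi : i < 78) : (code A).getD i 0 = pk 78 (ent A i) := by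
  simp only [code, List.getD_eq_getElem?_getD, List.getElem?_map, List.getElem?_range hi,
    Option.map_some, Option.getD_some]

theorem code_length (A : Mat78) : (code A).length = 78 := by simp [code]

attribute [local irreducible] code

theorem code_inj {A B : Mat78} (h : code A = code B) : A = B := by
  ext i j
  have e := congrArg (fun l : List ℕ => l.getD i.1 0) h
  simp only [code_getD _ i.2] at e
  have := pk_inj (fun j _ => lt_of_lt_of_le (ent_lt A _ j) (by norm_num))
    (fun j _ => lt_of_lt_of_le (ent_lt B _ j) (by norm_num)) e j.1 j.2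
  rw [ent_eq, ent_eq] at this
  exact ZMod.val_injective _ this

theorem rowSum_code (A : Mat78) (row : List (ℕ × ℕ)) (hrow : ∀ e ∈ row, e.1 < 78 ∧ e.2 < 13) :
    ∃ u : ℕ → ℕ, rowSum row (code A) = pk 78 u ∧ (∀ j, u j ≤ 144 * row.length) ∧
      ∀ j : Fin 78, ((u j.1 : ℕ) : ZMod 13) = ∑ k : Fin 78, rowVal row k.1 * A k j := by
  induction row with
  | nil => exact ⟨fun _ => 0, (pk_zero 78).symm, by simp, by simp [rowVal]⟩
  | cons e l ih =>
    obtain ⟨k, c⟩ := e
    obtain ⟨hk, hc⟩ := hrow (k, c) (by simp)
    simp only at hk hc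
    obtain ⟨u, hu, hub, huv⟩ := ih fun e he => hrow e (by simp [he])
    refine ⟨fun j => c * ent A k j + u j, ?_, ?_, ?_⟩
    · show c * (code A).getD k 0 + rowSum l (code A) = _
      rw [code_getD A hk, pk_smul, hu, pk_add]
    · intro j
      have h1 : c * ent A k j ≤ 12 * 12 :=
        Nat.mul_le_mul (by omega) (by have := ent_lt A k j; omega)
      have := hub j
      simp only [List.length_cons]
      omega
    · intro j
      have hval : ∀ m : ℕ, rowVal ((k, c) :: l) m = (if k = m then (c : ZMod 13) else 0) + rowVal l m := by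
        intro m
        by_cases h : k = m <;> simp [rowVal, h]
      show ((c * ent A k j.1 + u j.1 : ℕ) : ZMod 13) = _
      rw [Nat.cast_add, Nat.cast_mul, huv j]
      simp_rw [hval, add_mul]
      rw [Finset.sum_add_distrib]
      refine congrArg₂ (· + ·) ?_ rfl
      rw [Finset.sum_eq_single (⟨k, hk⟩ : Fin 78)]
      · rw [if_pos rfl, show ent A k j.1 = (A ⟨k, hk⟩ j).val from ent_eq A ⟨k, hk⟩ j,
          ZMod.natCast_zmod_val]
      · intro m _ hm
        rw [if_neg (fun h => hm (Fin.ext h.symm)), zero_mul]
      · simp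

theorem step_code (g : List (List (ℕ × ℕ))) (hg : okGen g = true) (A : Mat78) :
    step msk g (code A) = code (genMat g * A) := by
  simp only [okGen, Bool.and_eq_true, Nat.beq_eq, List.all_eq_true, Nat.ble_eq, Nat.blt_eq] at hg
  obtain ⟨hlen, hrows⟩ := hg
  refine List.ext_getElem (by rw [code_length]; simp [step, hlen]) fun i h1 h2 => ?_
  have hi : i < 78 := code_length (genMat g * A) ▸ h2
  rw [← List.getD_eq_getElem (code (genMat g * A)) 0 h2, code_getD _ hi]
  simp only [step, List.getElem_map]
  have hmem : g[i]'(by omega) ∈ g := List.getElem_mem _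
  obtain ⟨u, hu, hub, huv⟩ := rowSum_code A (g[i]'(by omega)) fun e he => (hrows _ hmem).2 e he
  have hl := (hrows _ hmem).1
  rw [hu, red_pk u fun j _ => by have := hub j; omega]
  refine pk_congr fun j hj => ?_
  have e : ((u j : ℕ) : ZMod 13) = (genMat g * A) ⟨i, hi⟩ ⟨j, hj⟩ := by
    rw [Matrix.mul_apply, huv ⟨j, hj⟩]
    refine Finset.sum_congr rfl fun k _ => ?_
    show rowVal _ k.1 * _ = rowVal (g.getD i []) k.1 * _
    rw [List.getD_eq_getElem g _ (show i < g.length by omega)]
  rw [show ent (genMat g * A) i j = _ from ent_eq (genMat g * A) ⟨i, hi⟩ ⟨j, hj⟩, ← e,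
    ZMod.val_natCast]

/-- The coded identity. -/
def oneCode : List ℕ := (List.range 78).map fun i => Nat.shiftLeft 1 (32 * i)

theorem pk_single : ∀ (n i : ℕ), i < n → pk n (fun j => if j = i then 1 else 0) = 4294967296 ^ i := by
  intro n
  induction n with
  | zero => intro i h; omega
  | succ n ih =>
    intro i hi
    cases i with
    | zero =>
      simp only [pk, if_true, pow_zero]
      rw [show pk n (fun j => if j + 1 = 0 then 1 else 0) = 0 from
        (pk_congr fun j _ => by simp).trans (pk_zero n)]
      simp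
    | succ i =>
      simp only [pk]
      rw [pk_congr (v := fun j => if j = i then 1 else 0) fun j _ => by simp, ih i (by omega)]
      simp [pow_succ, mul_comm]

theorem oneCode_eq : oneCode = code 1 := by
  unfold oneCode code
  refine List.map_congr_left fun i hi => ?_
  rw [List.mem_range] at hi
  show 1 <<< (32 * i) = _
  rw [Nat.one_shiftLeft, pow_mul, pk_congr (v := fun j => if j = i then 1 else 0),
    pk_single 78 i hi]
  · norm_num
  intro j hj
  rw [show ent (1 : Mat78) i j = _ from ent_eq 1 ⟨i, hi⟩ ⟨j, hj⟩, Matrix.one_apply]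
  by_cases h : i = j
  · subst h; simp; rfl
  · simp [h, Ne.symm h, Fin.ext_iff]

theorem pk_lt (n : ℕ) (v : ℕ → ℕ) (h : ∀ j < n, v j < 4294967296) : pk n v < 4294967296 ^ n := by
  induction n generalizing v with
  | zero => simp [pk]
  | succ n ih =>
    have h0 := h 0 (by omega)
    have h1 := ih (fun j => v (j + 1)) fun j hj => h (j + 1) (by omega)
    simp only [pk, pow_succ']
    calc v 0 + 4294967296 * pk n (fun j => v (j + 1))
        < 4294967296 + 4294967296 * pk n (fun j => v (j + 1)) := by omega
      _ = 4294967296 * (pk n (fun j => v (j + 1)) + 1) := by ring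
      _ ≤ _ := Nat.mul_le_mul_left _ h1

theorem code_lt (A : Mat78) : ∀ r ∈ code A, r < 2 ^ 2496 := by
  intro r hr
  obtain ⟨i, hi, rfl⟩ := List.getElem_of_mem hr
  rw [← List.getD_eq_getElem (code A) 0 hi, code_getD A (code_length A ▸ hi)]
  calc pk 78 (ent A i) < 4294967296 ^ 78 :=
        pk_lt 78 _ fun j _ => lt_of_lt_of_le (ent_lt A i j) (by norm_num)
    _ = 2 ^ 2496 := by
        rw [show (4294967296 : ℕ) = 2 ^ 32 by norm_num, ← pow_mul]

/-- Rows of a coded matrix packed into one number, with `w` bits per row. -/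
def packRows (w : ℕ) : List ℕ → ℕ
  | [] => 0
  | r :: rs => Nat.add r (Nat.shiftLeft (packRows w rs) w)

/-- A row of a packed matrix. -/
def rowAt (w M k : ℕ) : ℕ := Nat.mod (Nat.shiftRight M (Nat.mul w k)) (Nat.shiftLeft 1 w)

theorem rowAt_packRows (w : ℕ) : ∀ (l : List ℕ), (∀ r ∈ l, r < 2 ^ w) → ∀ k,
    rowAt w (packRows w l) k = l.getD k 0
  | [], _, k => by
    show (0 >>> (w * k)) % _ = _
    simp
  | r :: rs, h, k => by
    have hr := h r (by simp)
    have ih := rowAt_packRows w rs fun r hr => h r (by simp [hr])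
    have e : ∀ M k, rowAt w M k = M / 2 ^ (w * k) % 2 ^ w := by
      intro M k
      show M >>> (w * k) % (1 <<< w) = _
      rw [Nat.shiftRight_eq_div_pow, Nat.one_shiftLeft]
    rw [e]
    show (r + packRows w rs <<< w) / 2 ^ (w * k) % 2 ^ w = _
    rw [Nat.shiftLeft_eq, Nat.mul_comm (packRows w rs)]
    cases k with
    | zero => simp [Nat.mod_eq_of_lt hr]
    | succ k =>
      have := ih k
      rw [e] at this
      rw [List.getD_cons_succ, ← this, show w * (k + 1) = w + w * k by ring, pow_add,
        ← Nat.div_div_eq_div_mul, Nat.add_mul_div_left _ _ (by positivity),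
        Nat.div_eq_of_lt hr, Nat.zero_add]

/-- A sparse row times a packed matrix. -/
def rowSumN (w : ℕ) : List (ℕ × ℕ) → ℕ → ℕ
  | [], _ => 0
  | (k, c) :: l, M => Nat.add (Nat.mul c (rowAt w M k)) (rowSumN w l M)

theorem rowSumN_eq (w : ℕ) (M : ℕ) (L : List ℕ) (h : ∀ k, rowAt w M k = L.getD k 0) :
    ∀ row : List (ℕ × ℕ), rowSumN w row M = rowSum row L
  | [] => rfl
  | (k, c) :: l => by simp only [rowSumN, rowSum, h, rowSumN_eq w M L h l]

/-- A sparse matrix times a packed matrix. -/
def stepN (mask w : ℕ) (g : List (List (ℕ × ℕ))) (M : ℕ) : ℕ :=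
  packRows w (g.map fun row => red mask (rowSumN w row M))

theorem stepN_code (g : List (List (ℕ × ℕ))) (A : Mat78) :
    stepN msk 2496 g (packRows 2496 (code A)) = packRows 2496 (step msk g (code A)) := by
  simp only [stepN, step, rowSumN_eq 2496 _ _ (rowAt_packRows 2496 _ (code_lt A))]

theorem packRows_inj {w : ℕ} {l l' : List ℕ} (hl : ∀ r ∈ l, r < 2 ^ w) (hl' : ∀ r ∈ l', r < 2 ^ w)
    (hlen : l.length = l'.length) (h : packRows w l = packRows w l') : l = l' := by
  refine List.ext_getElem hlen fun i h1 h2 => ?_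
  rw [← List.getD_eq_getElem l 0 h1, ← List.getD_eq_getElem l' 0 h2, ← rowAt_packRows w l hl,
    ← rowAt_packRows w l' hl', h]

/-- Coded product of a word of sparse matrices. -/
def evalCode (mask w one : ℕ) (gs : List (List (List (ℕ × ℕ)))) : ℕ :=
  gs.foldr (fun g M => stepN mask w g M) one

/-- The packed identity. -/
def oneN : ℕ := packRows 2496 oneCode

theorem evalCode_eq (gs : List (List (List (ℕ × ℕ)))) (h : ∀ g ∈ gs, okGen g = true) :
    evalCode msk 2496 oneN gs = packRows 2496 (code (gs.map genMat).prod) := by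
  induction gs with
  | nil => exact congrArg _ oneCode_eq
  | cons g l ih =>
    rw [List.map_cons, List.prod_cons, ← step_code g (h g (by simp)), ← stepN_code,
      ← ih fun g hg => h g (by simp [hg])]
    rfl

/-- A boolean check that a word of sparse matrices evaluates to the identity. -/
def isOneWord (gs : List (List (List (ℕ × ℕ)))) : Bool :=
  gs.all okGen && Nat.beq (evalCode msk 2496 oneN gs) oneN

theorem prod_eq_one {gs : List (List (List (ℕ × ℕ)))} (h : isOneWord gs = true) :
    (gs.map genMat).prod = 1 := by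
  simp only [isOneWord, Bool.and_eq_true, Nat.beq_eq, List.all_eq_true] at h
  have e := (evalCode_eq gs h.1).symm.trans h.2
  rw [oneN, oneCode_eq] at e
  exact code_inj (packRows_inj (code_lt _) (code_lt _) (by rw [code_length, code_length]) e)

end Cfsg.Agent.Lib.Fi22Rep78
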