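/-! Sparse generator matrices of a 78-dimensional representation of Fi22 modulo 13. -/

set_option autoImplicit false
set_option maxRecDepth 20000

namespace Cfsg.Agent.Lib.Fi22Rep78

def gA : List (List (Nat × Nat)) := [
  [(0, 12), (6, 1), (11, 1)],
  [(1, 12), (5, 1), (7, 1), (8, 1), (9, 1), (10, 1), (12, 1), (13, 1), (14, 1)],
  [(2, 12), (5, 12), (7, 12), (10, 12), (12, 12)],
  [(3, 12), (8, 12), (9, 12), (13, 12), (14, 12)],
  [(4, 12), (5, 12), (7, 12), (10, 12), (12, 12)],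
  [(10, 1)],
  [(11, 1)],
  [(12, 1)],
  [(13, 1)],
  [(14, 1)],
  [(5, 1)],
  [(6, 1)],
  [(7, 1)],
  [(8, 1)],
  [(9, 1)],
  [(15, 1)],
  [(17, 1)],
  [(16, 1)],
  [(18, 12)],
  [(19, 12)],
  [(21, 1)],
  [(20, 1)],
  [(22, 12)],
  [(23, 12)],
  [(25, 1)],
  [(24, 1)],
  [(26, 12)],
  [(27, 12)],
  [(29, 1)],
  [(28, 1)],
  [(30, 12)],
  [(31, 12)],
  [(33, 1)],
  [(32, 1)],
  [(34, 12)],
  [(35, 12)],
  [(37, 1)],
  [(36, 1)],
  [(38, 12)],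
  [(39, 12)],
  [(41, 1)],
  [(40, 1)],
  [(42, 12)],
  [(43, 12)],
  [(45, 1)],
  [(44, 1)],
  [(46, 12)],
  [(47, 12)],
  [(49, 1)],
  [(48, 1)],
  [(50, 12)],
  [(51, 12)],
  [(53, 1)],
  [(52, 1)],
  [(54, 12)],
  [(55, 12)],
  [(57, 1)],
  [(56, 1)],
  [(58, 12)],
  [(59, 12)],
  [(61, 1)],
  [(60, 1)],
  [(62, 12)],
  [(63, 12)],
  [(65, 1)],
  [(64, 1)],
  [(66, 12)],
  [(67, 12)],
  [(69, 1)],
  [(68, 1)],
  [(70, 12)],
  [(71, 12)],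
  [(73, 1)],
  [(72, 1)],
  [(74, 12)],
  [(75, 12)],
  [(77, 1)],
  [(76, 1)]]

def gB : List (List (Nat × Nat)) := [
  [(0, 12), (2, 1), (5, 1)],
  [(5, 12), (6, 12), (7, 12), (8, 12), (9, 12)],
  [(5, 1)],
  [(9, 1)],
  [(4, 12), (13, 1), (14, 1)],
  [(2, 1)],
  [(1, 12), (5, 1), (7, 1), (8, 1), (9, 1), (10, 1), (12, 1), (13, 1), (14, 1)],
  [(2, 12), (5, 12), (7, 12), (10, 12), (12, 12)],
  [(3, 12), (8, 12), (9, 12), (13, 12), (14, 12)],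
  [(3, 1)],
  [(12, 1)],
  [(10, 12), (11, 12), (12, 12), (13, 12), (14, 12)],
  [(10, 1)],
  [(14, 1)],
  [(13, 1)],
  [(17, 1)],
  [(16, 1)],
  [(15, 1)],
  [(20, 1)],
  [(19, 12)],
  [(18, 1)],
  [(21, 12)],
  [(22, 12)],
  [(25, 1)],
  [(24, 12)],
  [(23, 1)],
  [(28, 1)],
  [(27, 12)],
  [(26, 1)],
  [(29, 12)],
  [(30, 12)],
  [(33, 1)],
  [(32, 12)],
  [(31, 1)],
  [(36, 1)],
  [(35, 12)],
  [(34, 1)],
  [(37, 12)],
  [(38, 12)],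
  [(41, 1)],
  [(40, 12)],
  [(39, 1)],
  [(44, 1)],
  [(43, 12)],
  [(42, 1)],
  [(45, 12)],
  [(46, 12)],
  [(49, 1)],
  [(48, 12)],
  [(47, 1)],
  [(52, 1)],
  [(51, 12)],
  [(50, 1)],
  [(53, 12)],
  [(54, 12)],
  [(57, 1)],
  [(56, 12)],
  [(55, 1)],
  [(60, 1)],
  [(59, 12)],
  [(58, 1)],
  [(61, 12)],
  [(62, 12)],
  [(65, 1)],
  [(64, 12)],
  [(63, 1)],
  [(68, 1)],
  [(67, 12)],
  [(66, 1)],
  [(69, 12)],
  [(70, 12)],
  [(73, 1)],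
  [(72, 12)],
  [(71, 1)],
  [(76, 1)],
  [(75, 12)],
  [(74, 1)],
  [(77, 12)]]

def gC : List (List (Nat × Nat)) := [
  [(0, 12), (11, 1), (14, 1)],
  [(0, 1), (1, 12), (2, 12), (4, 1), (7, 1), (8, 1), (9, 1), (11, 12), (14, 12)],
  [(0, 12), (4, 12), (6, 1), (11, 1), (14, 1)],
  [(0, 1), (2, 12), (3, 12), (4, 1), (6, 12), (11, 12), (12, 12), (13, 12), (14, 12)],
  [(0, 1), (2, 12), (9, 1)],
  [(5, 12), (6, 12), (7, 12), (8, 12), (9, 12)],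
  [(9, 1)],
  [(8, 1)],
  [(7, 1)],
  [(6, 1)],
  [(10, 12), (11, 12), (12, 12), (13, 12), (14, 12)],
  [(14, 1)],
  [(13, 1)],
  [(12, 1)],
  [(11, 1)],
  [(15, 12)],
  [(20, 1)],
  [(21, 1)],
  [(18, 1)],
  [(19, 12)],
  [(16, 1)],
  [(17, 1)],
  [(26, 1)],
  [(27, 1)],
  [(24, 12)],
  [(25, 12)],
  [(22, 1)],
  [(23, 1)],
  [(28, 12)],
  [(29, 12)],
  [(30, 12)],
  [(31, 12)],
  [(36, 1)],
  [(37, 1)],
  [(34, 12)],
  [(35, 12)],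
  [(32, 1)],
  [(33, 1)],
  [(42, 1)],
  [(43, 1)],
  [(40, 12)],
  [(41, 12)],
  [(38, 1)],
  [(39, 1)],
  [(44, 12)],
  [(45, 12)],
  [(46, 12)],
  [(47, 12)],
  [(52, 1)],
  [(53, 1)],
  [(50, 12)],
  [(51, 12)],
  [(48, 1)],
  [(49, 1)],
  [(58, 1)],
  [(59, 1)],
  [(56, 12)],
  [(57, 12)],
  [(54, 1)],
  [(55, 1)],
  [(60, 12)],
  [(61, 12)],
  [(62, 12)],
  [(63, 12)],
  [(68, 1)],
  [(69, 1)],
  [(66, 12)],
  [(67, 12)],
  [(64, 1)],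
  [(65, 1)],
  [(74, 1)],
  [(75, 1)],
  [(72, 12)],
  [(73, 12)],
  [(70, 1)],
  [(71, 1)],
  [(76, 12)],
  [(77, 12)]]

def gD : List (List (Nat × Nat)) := [
  [(0, 12), (1, 1), (2, 1), (8, 12), (9, 12), (11, 1), (12, 1)],
  [(0, 12), (2, 1), (4, 12), (7, 12), (8, 12), (9, 12), (11, 1), (14, 1)],
  [(0, 1), (2, 12), (4, 1), (6, 12), (11, 12), (14, 12)],
  [(0, 12), (2, 1), (4, 12), (6, 1), (11, 1), (12, 1), (13, 1), (14, 1)],
  [(0, 1), (6, 12), (11, 12), (14, 12)],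
  [(0, 12), (1, 1), (2, 1), (4, 12), (5, 12), (7, 12), (8, 12), (9, 12), (11, 1), (14, 1)],
  [(0, 12), (2, 1), (3, 1), (4, 12), (11, 1), (12, 1), (13, 1), (14, 1)],
  [(0, 1), (2, 12), (3, 12), (4, 1), (13, 12), (14, 12)],
  [(0, 12), (4, 12), (5, 12), (7, 12), (8, 12), (9, 12), (10, 12), (12, 12)],
  [(0, 1), (1, 12), (2, 12), (4, 1), (5, 1), (7, 1), (8, 1), (9, 1), (10, 1), (11, 12)],
  [(0, 1), (1, 12), (2, 12), (4, 1), (5, 1), (7, 1), (8, 1), (9, 2), (11, 12)],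
  [(0, 1), (2, 12), (3, 12), (4, 1), (7, 1), (11, 12), (13, 12), (14, 12)],
  [(0, 12), (2, 1), (3, 1), (4, 12), (6, 1), (11, 1), (13, 1), (14, 1)],
  [(0, 1), (4, 1), (6, 12), (11, 12), (13, 12), (14, 12)],
  [(0, 12), (1, 1), (2, 1), (4, 12), (7, 12), (8, 12), (9, 12), (11, 1)],
  [(15, 12)],
  [(16, 12)],
  [(17, 12)],
  [(26, 1)],
  [(27, 1)],
  [(28, 1)],
  [(29, 1)],
  [(22, 1)],
  [(23, 12)],
  [(24, 12)],
  [(25, 12)],
  [(18, 1)],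
  [(19, 1)],
  [(20, 1)],
  [(21, 1)],
  [(38, 1)],
  [(39, 1)],
  [(40, 1)],
  [(41, 1)],
  [(34, 12)],
  [(35, 12)],
  [(36, 12)],
  [(37, 12)],
  [(30, 1)],
  [(31, 1)],
  [(32, 1)],
  [(33, 1)],
  [(42, 12)],
  [(43, 12)],
  [(44, 12)],
  [(45, 12)],
  [(46, 12)],
  [(47, 12)],
  [(48, 12)],
  [(49, 12)],
  [(58, 1)],
  [(59, 1)],
  [(60, 1)],
  [(61, 1)],
  [(54, 12)],
  [(55, 12)],
  [(56, 12)],
  [(57, 12)],
  [(50, 1)],
  [(51, 1)],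
  [(52, 1)],
  [(53, 1)],
  [(70, 1)],
  [(71, 1)],
  [(72, 1)],
  [(73, 1)],
  [(66, 12)],
  [(67, 12)],
  [(68, 12)],
  [(69, 12)],
  [(62, 1)],
  [(63, 1)],
  [(64, 1)],
  [(65, 1)],
  [(74, 12)],
  [(75, 12)],
  [(76, 12)],
  [(77, 12)]]

def gE : List (List (Nat × Nat)) := [
  [(4, 1), (5, 1), (7, 1), (8, 1), (9, 1), (10, 1), (12, 1)],
  [(11, 1)],
  [(12, 1)],
  [(0, 1), (2, 12), (3, 12), (4, 1), (6, 12), (11, 12), (12, 12), (13, 12), (14, 12)],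
  [(0, 1), (1, 12), (2, 12), (7, 1), (8, 1), (9, 1), (11, 12)],
  [(10, 1)],
  [(1, 12), (5, 1), (7, 1), (8, 1), (9, 1), (10, 1), (12, 1), (13, 1), (14, 1)],
  [(2, 12), (5, 12), (7, 12), (10, 12), (12, 12)],
  [(0, 1), (4, 1), (5, 1), (7, 1), (9, 1), (10, 1), (12, 1)],
  [(0, 12), (1, 1), (2, 1), (4, 12), (5, 12), (7, 12), (8, 12), (9, 11), (10, 12), (11, 1)],
  [(5, 1)],
  [(1, 1)],
  [(2, 1)],
  [(0, 12), (4, 12), (6, 1), (11, 1), (14, 1)],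
  [(0, 1), (1, 12), (2, 12), (4, 1), (7, 1), (8, 1), (9, 1), (11, 12), (14, 12)],
  [(15, 12)],
  [(16, 12)],
  [(17, 12)],
  [(18, 12)],
  [(19, 12)],
  [(20, 12)],
  [(21, 12)],
  [(38, 1)],
  [(39, 1)],
  [(40, 1)],
  [(41, 1)],
  [(42, 1)],
  [(43, 1)],
  [(44, 1)],
  [(45, 1)],
  [(30, 1)],
  [(31, 12)],
  [(32, 12)],
  [(33, 12)],
  [(34, 12)],
  [(35, 12)],
  [(36, 12)],
  [(37, 12)],
  [(22, 1)],
  [(23, 1)],
  [(24, 1)],
  [(25, 1)],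
  [(26, 1)],
  [(27, 1)],
  [(28, 1)],
  [(29, 1)],
  [(62, 1)],
  [(63, 1)],
  [(64, 1)],
  [(65, 1)],
  [(66, 1)],
  [(67, 1)],
  [(68, 1)],
  [(69, 1)],
  [(54, 12)],
  [(55, 12)],
  [(56, 12)],
  [(57, 12)],
  [(58, 12)],
  [(59, 12)],
  [(60, 12)],
  [(61, 12)],
  [(46, 1)],
  [(47, 1)],
  [(48, 1)],
  [(49, 1)],
  [(50, 1)],
  [(51, 1)],
  [(52, 1)],
  [(53, 1)],
  [(70, 12)],
  [(71, 12)],
  [(72, 12)],
  [(73, 12)],
  [(74, 12)],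
  [(75, 12)],
  [(76, 12)],
  [(77, 12)]]

def gF : List (List (Nat × Nat)) := [
  [(0, 12), (2, 1), (3, 1)],
  [(1, 12), (5, 1), (7, 1), (8, 1), (9, 1), (10, 1), (12, 1), (13, 1), (14, 1)],
  [(3, 1)],
  [(2, 1)],
  [(4, 12), (5, 12), (7, 12), (8, 12), (9, 12)],
  [(9, 1)],
  [(5, 12), (6, 12), (7, 12), (8, 12), (9, 12)],
  [(8, 1)],
  [(7, 1)],
  [(5, 1)],
  [(14, 1)],
  [(10, 12), (11, 12), (12, 12), (13, 12), (14, 12)],
  [(13, 1)],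
  [(12, 1)],
  [(10, 1)],
  [(15, 12)],
  [(16, 12)],
  [(17, 12)],
  [(18, 12)],
  [(19, 12)],
  [(20, 12)],
  [(21, 12)],
  [(22, 12)],
  [(23, 12)],
  [(24, 12)],
  [(25, 12)],
  [(26, 12)],
  [(27, 12)],
  [(28, 12)],
  [(29, 12)],
  [(62, 1)],
  [(63, 1)],
  [(64, 1)],
  [(65, 1)],
  [(66, 1)],
  [(67, 1)],
  [(68, 1)],
  [(69, 1)],
  [(70, 1)],
  [(71, 1)],
  [(72, 1)],
  [(73, 1)],
  [(74, 1)],
  [(75, 1)],
  [(76, 1)],
  [(77, 1)],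
  [(46, 1)],
  [(47, 12)],
  [(48, 12)],
  [(49, 12)],
  [(50, 12)],
  [(51, 12)],
  [(52, 12)],
  [(53, 12)],
  [(54, 12)],
  [(55, 12)],
  [(56, 12)],
  [(57, 12)],
  [(58, 12)],
  [(59, 12)],
  [(60, 12)],
  [(61, 12)],
  [(30, 1)],
  [(31, 1)],
  [(32, 1)],
  [(33, 1)],
  [(34, 1)],
  [(35, 1)],
  [(36, 1)],
  [(37, 1)],
  [(38, 1)],
  [(39, 1)],
  [(40, 1)],
  [(41, 1)],
  [(42, 1)],
  [(43, 1)],
  [(44, 1)],
  [(45, 1)]]

def gG : List (List (Nat × Nat)) := [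
  [(0, 12), (1, 1), (2, 1), (8, 12), (9, 12), (11, 1), (12, 1)],
  [(2, 1)],
  [(1, 1)],
  [(3, 12), (8, 12), (9, 12), (13, 12), (14, 12)],
  [(4, 12), (13, 1), (14, 1)],
  [(5, 12), (6, 12), (7, 12), (8, 12), (9, 12)],
  [(7, 1)],
  [(6, 1)],
  [(9, 1)],
  [(8, 1)],
  [(10, 12), (11, 12), (12, 12), (13, 12), (14, 12)],
  [(12, 1)],
  [(11, 1)],
  [(14, 1)],
  [(13, 1)],
  [(15, 12)],
  [(16, 12)],
  [(17, 12)],
  [(18, 12)],
  [(19, 12)],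
  [(20, 12)],
  [(21, 12)],
  [(22, 12)],
  [(23, 12)],
  [(24, 12)],
  [(25, 12)],
  [(26, 12)],
  [(27, 12)],
  [(28, 12)],
  [(29, 12)],
  [(30, 12)],
  [(31, 12)],
  [(32, 12)],
  [(33, 12)],
  [(34, 12)],
  [(35, 1)],
  [(36, 12)],
  [(37, 12)],
  [(38, 12)],
  [(39, 12)],
  [(40, 12)],
  [(41, 12)],
  [(42, 12)],
  [(43, 12)],
  [(44, 12)],
  [(45, 12)],
  [(67, 1)],
  [(66, 1)],
  [(69, 1)],
  [(68, 1)],
  [(63, 1)],
  [(62, 1)],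
  [(65, 1)],
  [(64, 1)],
  [(75, 1)],
  [(74, 1)],
  [(77, 1)],
  [(76, 1)],
  [(71, 1)],
  [(70, 1)],
  [(73, 1)],
  [(72, 1)],
  [(51, 1)],
  [(50, 1)],
  [(53, 1)],
  [(52, 1)],
  [(47, 1)],
  [(46, 1)],
  [(49, 1)],
  [(48, 1)],
  [(59, 1)],
  [(58, 1)],
  [(61, 1)],
  [(60, 1)],
  [(55, 1)],
  [(54, 1)],
  [(57, 1)],
  [(56, 1)]]

def gH : List (List (Nat × Nat)) := [
  [(9, 1)],
  [(0, 12), (2, 1), (9, 12), (11, 1), (12, 1)],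
  [(0, 1), (2, 12), (9, 1)],
  [(0, 12), (2, 1), (5, 1)],
  [(0, 12), (4, 12), (6, 1), (11, 1), (14, 1)],
  [(0, 12), (2, 1), (3, 1)],
  [(0, 12), (11, 1), (14, 1)],
  [(0, 1), (1, 12), (2, 12), (8, 1), (9, 1), (11, 12), (13, 1)],
  [(0, 12), (1, 1), (2, 1), (8, 12), (9, 12), (11, 1), (12, 1)],
  [(0, 1)],
  [(0, 1), (2, 12), (3, 12), (5, 12), (6, 12), (7, 12), (8, 12), (9, 12), (10, 12), (11, 12), (12, 12), (13, 12), (14, 12)],
  [(0, 1), (9, 1), (11, 12)],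
  [(0, 12), (1, 1), (2, 1), (9, 12), (11, 1)],
  [(0, 1), (1, 12), (2, 12), (7, 1), (8, 1), (9, 1), (11, 12)],
  [(0, 12), (6, 1), (11, 1)],
  [(15, 12)],
  [(16, 12)],
  [(17, 12)],
  [(18, 12)],
  [(19, 1)],
  [(20, 12)],
  [(21, 12)],
  [(27, 1)],
  [(26, 1)],
  [(29, 1)],
  [(28, 1)],
  [(23, 1)],
  [(22, 1)],
  [(25, 1)],
  [(24, 1)],
  [(30, 12)],
  [(31, 12)],
  [(32, 12)],
  [(33, 12)],
  [(34, 12)],
  [(35, 12)],
  [(36, 12)],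
  [(37, 12)],
  [(43, 1)],
  [(42, 1)],
  [(45, 1)],
  [(44, 1)],
  [(39, 1)],
  [(38, 1)],
  [(41, 1)],
  [(40, 1)],
  [(46, 12)],
  [(47, 12)],
  [(48, 12)],
  [(49, 12)],
  [(50, 12)],
  [(51, 12)],
  [(52, 12)],
  [(53, 12)],
  [(59, 1)],
  [(58, 1)],
  [(61, 1)],
  [(60, 1)],
  [(55, 1)],
  [(54, 1)],
  [(57, 1)],
  [(56, 1)],
  [(62, 12)],
  [(63, 12)],
  [(64, 12)],
  [(65, 12)],
  [(66, 12)],
  [(67, 12)],
  [(68, 12)],
  [(69, 12)],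
  [(75, 1)],
  [(74, 1)],
  [(77, 1)],
  [(76, 1)],
  [(71, 1)],
  [(70, 1)],
  [(73, 1)],
  [(72, 1)]]

def gI : List (List (Nat × Nat)) := [
  [(1, 8), (2, 11), (3, 8), (4, 8), (5, 3), (6, 8), (7, 8), (9, 5), (10, 8), (11, 11), (12, 3), (14, 8), (19, 1), (23, 1), (24, 1), (25, 1), (27, 12), (31, 1), (32, 1), (33, 12), (34, 1), (36, 1), (37, 1), (39, 12), (40, 12), (41, 1), (43, 12), (47, 1), (48, 1), (49, 12), (50, 1), (52, 12), (53, 12), (54, 1), (58, 1), (60, 1), (61, 12), (63, 1), (64, 12), (65, 1), (66, 12), (68, 1), (69, 12), (71, 1), (72, 12), (73, 12), (75, 12)],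
  [(1, 6), (19, 2), (23, 11), (36, 11), (40, 2), (50, 2), (54, 11), (69, 11), (73, 2)],
  [(2, 6), (19, 11), (23, 2), (36, 2), (40, 11), (48, 11), (60, 2), (63, 2), (75, 11)],
  [(3, 6), (19, 2), (23, 11), (31, 2), (43, 11), (48, 2), (60, 11), (68, 2), (72, 11)],
  [(0, 6), (1, 5), (2, 2), (3, 5), (4, 11), (5, 10), (6, 5), (7, 5), (9, 8), (10, 5), (11, 2), (12, 10), (14, 5), (19, 12), (23, 12), (24, 12), (25, 1), (27, 12), (31, 12), (32, 12), (33, 1), (34, 12), (36, 1), (37, 1), (39, 1), (40, 12), (41, 12), (43, 12), (47, 12), (48, 12), (49, 12), (50, 12), (52, 1), (53, 12), (54, 12), (58, 1), (60, 1), (61, 1), (63, 1), (64, 1), (65, 12), (66, 12), (68, 12), (69, 1), (71, 1), (72, 12), (73, 1), (75, 1)],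
  [(5, 6), (19, 2), (25, 2), (34, 2), (40, 2), (48, 2), (58, 2), (65, 2), (75, 2)],
  [(6, 6), (19, 2), (25, 2), (37, 2), (39, 2), (52, 11), (54, 11), (66, 11), (72, 11)],
  [(7, 6), (19, 11), (25, 11), (37, 11), (39, 11), (47, 11), (61, 11), (65, 11), (75, 11)],
  [(8, 6), (19, 2), (25, 2), (33, 11), (43, 11), (47, 2), (61, 2), (69, 11), (71, 11)],
  [(9, 6), (19, 11), (25, 11), (33, 2), (43, 2), (48, 11), (58, 11), (66, 2), (72, 2)],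
  [(10, 6), (19, 11), (24, 2), (34, 11), (41, 2), (49, 2), (58, 11), (64, 2), (75, 11)],
  [(11, 6), (19, 11), (24, 2), (36, 2), (39, 11), (53, 11), (54, 2), (66, 2), (73, 11)],
  [(12, 6), (19, 2), (24, 11), (36, 11), (39, 2), (47, 2), (60, 11), (64, 11), (75, 2)],
  [(13, 6), (19, 11), (24, 2), (32, 11), (43, 2), (47, 11), (60, 2), (68, 11), (71, 2)],
  [(14, 6), (19, 2), (24, 11), (32, 2), (43, 11), (49, 11), (58, 2), (66, 11), (73, 2)],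
  [(15, 6), (16, 3), (17, 3), (20, 10), (21, 10), (28, 3), (29, 3), (44, 10), (45, 10), (56, 10), (57, 10), (76, 3), (77, 3)],
  [(15, 3), (16, 6), (17, 3), (18, 3), (20, 3), (26, 10), (28, 10), (42, 3), (44, 3), (55, 3), (57, 3), (74, 10), (76, 10)],
  [(15, 3), (16, 3), (17, 6), (18, 10), (21, 3), (26, 3), (29, 10), (42, 10), (45, 3), (55, 10), (56, 3), (74, 3), (77, 10)],
  [(16, 3), (17, 10), (18, 6), (20, 3), (21, 10), (22, 3), (26, 3), (38, 10), (42, 10), (55, 10), (59, 10), (70, 3), (74, 3)],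
  [(1, 12), (2, 1), (3, 12), (4, 3), (5, 2), (6, 12), (7, 3), (9, 1), (10, 3), (11, 1), (12, 2), (14, 12), (19, 11), (23, 8), (24, 8), (25, 5), (27, 5), (31, 5), (32, 5), (33, 8), (34, 5), (36, 8), (37, 5), (39, 5), (40, 5), (41, 8), (43, 8), (47, 5), (48, 5), (49, 8), (50, 5), (52, 8), (53, 5), (54, 8), (58, 5), (60, 8), (61, 5), (63, 8), (64, 8), (65, 5), (66, 8), (68, 5), (69, 8), (71, 8), (72, 8), (73, 5), (75, 5)],
  [(15, 10), (16, 3), (18, 3), (20, 6), (21, 3), (22, 10), (28, 3), (38, 3), (44, 10), (57, 10), (59, 3), (70, 10), (76, 3)],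
  [(15, 10), (17, 3), (18, 10), (20, 3), (21, 6), (22, 3), (29, 3), (38, 10), (45, 10), (56, 10), (59, 10), (70, 3), (77, 3)],
  [(18, 3), (20, 10), (21, 3), (22, 6), (26, 3), (28, 10), (29, 3), (30, 3), (38, 3), (51, 3), (59, 3), (62, 10), (70, 10)],
  [(1, 3), (2, 10), (3, 3), (4, 3), (5, 11), (6, 12), (7, 12), (9, 1), (10, 12), (11, 1), (12, 11), (14, 12), (19, 8), (23, 11), (24, 8), (25, 5), (27, 5), (31, 8), (32, 5), (33, 8), (34, 5), (36, 5), (37, 8), (39, 5), (40, 8), (41, 5), (43, 5), (47, 5), (48, 8), (49, 5), (50, 8), (52, 8), (53, 5), (54, 5), (58, 5), (60, 5), (61, 8), (63, 5), (64, 8), (65, 5), (66, 8), (68, 8), (69, 5), (71, 8), (72, 5), (73, 8), (75, 8)],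
  [(1, 12), (2, 1), (3, 12), (4, 3), (5, 2), (6, 12), (7, 3), (9, 1), (10, 12), (11, 10), (12, 2), (13, 9), (14, 12), (19, 8), (23, 8), (24, 11), (25, 5), (27, 5), (31, 5), (32, 8), (33, 8), (34, 8), (36, 5), (37, 5), (39, 8), (40, 5), (41, 5), (43, 5), (47, 8), (48, 5), (49, 5), (50, 5), (52, 8), (53, 8), (54, 5), (58, 8), (60, 5), (61, 5), (63, 8), (64, 5), (65, 5), (66, 5), (68, 8), (69, 8), (71, 5), (72, 8), (73, 8), (75, 8)],
  [(1, 1), (2, 12), (3, 1), (4, 10), (5, 7), (6, 10), (7, 10), (8, 9), (9, 12), (10, 10), (11, 12), (12, 11), (14, 1), (19, 5), (23, 5), (24, 5), (25, 11), (27, 8), (31, 8), (32, 8), (33, 8), (34, 5), (36, 5), (37, 5), (39, 5), (40, 5), (41, 5), (43, 8), (47, 5), (48, 5), (49, 5), (50, 8), (52, 8), (53, 8), (54, 8), (58, 5), (60, 5), (61, 5), (63, 5), (64, 5), (65, 5), (66, 8), (68, 8), (69, 8), (71, 8), (72, 8), (73, 8), (75, 5)],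
  [(16, 10), (17, 3), (18, 3), (22, 3), (26, 6), (28, 3), (29, 10), (30, 10), (42, 3), (51, 10), (55, 3), (62, 3), (74, 10)],
  [(0, 12), (1, 10), (2, 4), (3, 10), (4, 9), (5, 2), (6, 10), (7, 5), (8, 4), (9, 7), (10, 1), (11, 4), (12, 11), (13, 9), (14, 6), (19, 5), (23, 5), (24, 5), (25, 8), (27, 11), (31, 5), (32, 5), (33, 8), (34, 8), (36, 5), (37, 8), (39, 5), (40, 5), (41, 8), (43, 5), (47, 8), (48, 8), (49, 5), (50, 5), (52, 8), (53, 5), (54, 5), (58, 5), (60, 8), (61, 5), (63, 8), (64, 8), (65, 5), (66, 5), (68, 8), (69, 5), (71, 8), (72, 8), (73, 5), (75, 8)],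
  [(15, 3), (16, 10), (20, 3), (22, 10), (26, 3), (28, 6), (29, 3), (30, 3), (44, 3), (51, 3), (57, 3), (62, 10), (76, 10)],
  [(15, 3), (17, 10), (21, 3), (22, 3), (26, 10), (28, 3), (29, 6), (30, 10), (45, 3), (51, 10), (56, 3), (62, 3), (77, 10)],
  [(22, 3), (26, 10), (28, 3), (29, 10), (30, 6), (38, 3), (42, 10), (44, 3), (45, 10), (46, 3), (51, 10), (62, 3), (67, 10)],
  [(1, 3), (2, 10), (3, 4), (4, 3), (5, 11), (6, 12), (7, 12), (8, 9), (9, 6), (10, 12), (11, 1), (12, 11), (13, 5), (14, 8), (19, 5), (23, 8), (24, 5), (25, 8), (27, 5), (31, 11), (32, 8), (33, 5), (34, 5), (36, 5), (37, 8), (39, 5), (40, 8), (41, 5), (43, 8), (47, 8), (48, 5), (49, 8), (50, 8), (52, 8), (53, 5), (54, 5), (58, 8), (60, 8), (61, 5), (63, 5), (64, 8), (65, 5), (66, 5), (68, 5), (69, 8), (71, 5), (72, 8), (73, 5), (75, 8)],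
  [(1, 12), (2, 1), (3, 3), (4, 3), (5, 2), (6, 12), (7, 3), (8, 4), (9, 1), (10, 12), (11, 10), (12, 2), (13, 4), (14, 8), (19, 5), (23, 5), (24, 8), (25, 8), (27, 5), (31, 8), (32, 11), (33, 5), (34, 8), (36, 5), (37, 5), (39, 8), (40, 5), (41, 5), (43, 8), (47, 5), (48, 8), (49, 8), (50, 5), (52, 8), (53, 8), (54, 5), (58, 5), (60, 8), (61, 8), (63, 8), (64, 5), (65, 5), (66, 8), (68, 5), (69, 5), (71, 8), (72, 5), (73, 5), (75, 8)],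
  [(1, 1), (2, 12), (3, 10), (4, 10), (5, 7), (6, 10), (7, 10), (9, 4), (10, 10), (11, 12), (12, 11), (14, 10), (19, 8), (23, 8), (24, 8), (25, 8), (27, 8), (31, 5), (32, 5), (33, 11), (34, 5), (36, 5), (37, 5), (39, 5), (40, 5), (41, 5), (43, 5), (47, 8), (48, 8), (49, 8), (50, 8), (52, 8), (53, 8), (54, 8), (58, 8), (60, 8), (61, 8), (63, 5), (64, 5), (65, 5), (66, 5), (68, 5), (69, 5), (71, 5), (72, 5), (73, 5), (75, 5)],
  [(0, 9), (1, 3), (2, 1), (3, 12), (4, 12), (5, 7), (6, 12), (7, 8), (8, 9), (9, 6), (10, 3), (11, 5), (12, 2), (14, 3), (19, 5), (23, 5), (24, 8), (25, 5), (27, 8), (31, 5), (32, 8), (33, 5), (34, 11), (36, 5), (37, 8), (39, 8), (40, 5), (41, 8), (43, 5), (47, 8), (48, 5), (49, 8), (50, 8), (52, 8), (53, 5), (54, 8), (58, 5), (60, 5), (61, 8), (63, 5), (64, 8), (65, 5), (66, 5), (68, 5), (69, 8), (71, 8), (72, 5), (73, 8), (75, 5)],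
  [(35, 6), (46, 3), (51, 10), (55, 10), (56, 10), (57, 3), (59, 3), (62, 10), (67, 3), (70, 3), (74, 10), (76, 3), (77, 10)],
  [(0, 4), (1, 1), (2, 8), (3, 10), (4, 1), (5, 11), (6, 10), (7, 1), (9, 12), (10, 1), (11, 8), (12, 2), (14, 10), (19, 8), (23, 5), (24, 5), (25, 5), (27, 5), (31, 5), (32, 5), (33, 5), (34, 5), (36, 11), (37, 5), (39, 8), (40, 8), (41, 8), (43, 8), (47, 8), (48, 8), (49, 8), (50, 8), (52, 8), (53, 8), (54, 5), (58, 5), (60, 5), (61, 5), (63, 5), (64, 5), (65, 5), (66, 5), (68, 5), (69, 5), (71, 8), (72, 8), (73, 8), (75, 8)],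
  [(0, 9), (1, 12), (2, 5), (3, 3), (4, 12), (5, 6), (6, 12), (7, 7), (8, 4), (9, 1), (10, 3), (11, 1), (12, 6), (13, 4), (14, 3), (19, 5), (23, 8), (24, 5), (25, 5), (27, 8), (31, 8), (32, 5), (33, 5), (34, 8), (36, 5), (37, 11), (39, 5), (40, 8), (41, 8), (43, 5), (47, 5), (48, 8), (49, 8), (50, 5), (52, 8), (53, 8), (54, 8), (58, 8), (60, 5), (61, 5), (63, 8), (64, 5), (65, 5), (66, 8), (68, 5), (69, 5), (71, 5), (72, 8), (73, 8), (75, 5)],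
  [(18, 10), (20, 3), (21, 10), (22, 3), (30, 3), (38, 6), (42, 3), (44, 10), (45, 3), (46, 10), (59, 10), (67, 3), (70, 3)],
  [(0, 4), (1, 1), (2, 8), (3, 10), (4, 1), (5, 11), (6, 10), (7, 1), (9, 12), (10, 10), (11, 12), (12, 7), (13, 9), (14, 10), (19, 5), (23, 5), (24, 8), (25, 5), (27, 5), (31, 5), (32, 8), (33, 5), (34, 8), (36, 8), (37, 5), (39, 11), (40, 8), (41, 5), (43, 5), (47, 5), (48, 8), (49, 5), (50, 8), (52, 8), (53, 5), (54, 8), (58, 8), (60, 8), (61, 5), (63, 5), (64, 8), (65, 5), (66, 8), (68, 8), (69, 5), (71, 5), (72, 8), (73, 5), (75, 5)],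
  [(0, 4), (1, 10), (2, 12), (3, 1), (4, 1), (5, 7), (6, 10), (7, 10), (9, 12), (10, 10), (11, 8), (12, 11), (14, 10), (19, 5), (23, 8), (24, 5), (25, 5), (27, 5), (31, 8), (32, 5), (33, 5), (34, 5), (36, 8), (37, 8), (39, 8), (40, 11), (41, 5), (43, 5), (47, 8), (48, 5), (49, 5), (50, 5), (52, 8), (53, 8), (54, 8), (58, 5), (60, 8), (61, 8), (63, 8), (64, 5), (65, 5), (66, 5), (68, 8), (69, 8), (71, 8), (72, 5), (73, 5), (75, 5)],
  [(0, 9), (1, 3), (2, 1), (3, 12), (4, 12), (5, 7), (6, 12), (7, 8), (8, 9), (9, 6), (10, 4), (11, 1), (12, 7), (13, 9), (14, 8), (19, 8), (23, 5), (24, 5), (25, 5), (27, 8), (31, 5), (32, 5), (33, 5), (34, 8), (36, 8), (37, 8), (39, 5), (40, 5), (41, 11), (43, 8), (47, 5), (48, 5), (49, 5), (50, 8), (52, 8), (53, 8), (54, 5), (58, 8), (60, 8), (61, 8), (63, 5), (64, 5), (65, 5), (66, 8), (68, 8), (69, 8), (71, 5), (72, 5), (73, 5),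 (75, 8)],
  [(16, 3), (17, 10), (18, 10), (26, 3), (30, 10), (38, 3), (42, 6), (44, 3), (45, 10), (46, 3), (55, 10), (67, 10), (74, 3)],
  [(1, 12), (2, 1), (3, 3), (4, 3), (5, 2), (6, 12), (7, 3), (8, 4), (9, 1), (10, 3), (11, 1), (12, 2), (14, 3), (19, 8), (23, 5), (24, 5), (25, 8), (27, 5), (31, 8), (32, 8), (33, 5), (34, 5), (36, 8), (37, 5), (39, 5), (40, 5), (41, 8), (43, 11), (47, 8), (48, 8), (49, 5), (50, 5), (52, 8), (53, 5), (54, 8), (58, 8), (60, 5), (61, 8), (63, 8), (64, 8), (65, 5), (66, 5), (68, 8), (69, 5), (71, 5), (72, 5), (73, 8), (75, 5)],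
  [(15, 10), (16, 3), (20, 10), (28, 3), (30, 3), (38, 10), (42, 3), (44, 6), (45, 3), (46, 10), (57, 10), (67, 3), (76, 3)],
  [(15, 10), (17, 3), (21, 10), (29, 3), (30, 10), (38, 3), (42, 10), (44, 3), (45, 6), (46, 3), (56, 10), (67, 10), (77, 3)],
  [(30, 3), (35, 3), (38, 10), (42, 3), (44, 10), (45, 3), (46, 6), (62, 3), (67, 3), (70, 10), (74, 3), (76, 10), (77, 3)],
  [(0, 9), (1, 12), (2, 1), (3, 3), (4, 12), (5, 2), (6, 3), (7, 3), (9, 1), (10, 12), (11, 1), (12, 11), (13, 4), (14, 3), (19, 5), (23, 5), (24, 8), (25, 5), (27, 8), (31, 8), (32, 5), (33, 8), (34, 8), (36, 8), (37, 5), (39, 5), (40, 8), (41, 5), (43, 8), (47, 11), (48, 8), (49, 5), (50, 5), (52, 5), (53, 8), (54, 5), (58, 8), (60, 8), (61, 5), (63, 5), (64, 8), (65, 5), (66, 5), (68, 5), (69, 8), (71, 8), (72, 5), (73, 8), (75, 5)],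
  [(0, 9), (1, 3), (2, 5), (3, 12), (4, 12), (5, 11), (6, 3), (7, 12), (9, 1), (10, 12), (11, 5), (12, 2), (14, 3), (19, 5), (23, 8), (24, 5), (25, 5), (27, 8), (31, 5), (32, 8), (33, 8), (34, 5), (36, 8), (37, 8), (39, 8), (40, 5), (41, 5), (43, 8), (47, 8), (48, 11), (49, 5), (50, 8), (52, 5), (53, 5), (54, 5), (58, 5), (60, 8), (61, 8), (63, 8), (64, 5), (65, 5), (66, 8), (68, 5), (69, 5), (71, 5), (72, 8), (73, 8), (75, 5)],
  [(0, 4), (1, 10), (2, 8), (3, 1), (4, 1), (5, 11), (6, 1), (7, 1), (8, 4), (9, 7), (10, 10), (11, 12), (12, 11), (13, 4), (14, 5), (19, 8), (23, 5), (24, 5), (25, 5), (27, 5), (31, 8), (32, 8), (33, 8), (34, 8), (36, 8), (37, 8), (39, 5), (40, 5), (41, 5), (43, 5), (47, 5), (48, 5), (49, 11), (50, 5), (52, 5), (53, 5), (54, 8), (58, 8), (60, 8), (61, 8), (63, 5), (64, 5), (65, 5), (66, 5), (68, 5), (69, 5), (71, 8), (72, 8), (73, 8),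 (75, 8)],
  [(1, 4), (2, 10), (3, 3), (4, 3), (5, 6), (6, 3), (7, 7), (8, 8), (9, 9), (10, 3), (11, 10), (12, 2), (13, 4), (14, 3), (19, 5), (23, 8), (24, 5), (25, 8), (27, 5), (31, 8), (32, 5), (33, 8), (34, 8), (36, 8), (37, 5), (39, 8), (40, 5), (41, 8), (43, 5), (47, 5), (48, 8), (49, 5), (50, 11), (52, 5), (53, 8), (54, 8), (58, 5), (60, 5), (61, 8), (63, 5), (64, 8), (65, 5), (66, 5), (68, 5), (69, 8), (71, 5), (72, 8), (73, 5), (75, 8)],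
  [(22, 3), (26, 10), (28, 3), (29, 10), (30, 10), (35, 10), (51, 6), (55, 10), (56, 10), (57, 3), (59, 3), (62, 3), (67, 3)],
  [(1, 10), (2, 12), (3, 1), (4, 10), (5, 2), (6, 9), (7, 5), (8, 4), (9, 7), (10, 1), (11, 3), (12, 2), (13, 4), (14, 5), (19, 8), (23, 8), (24, 8), (25, 8), (27, 8), (31, 8), (32, 8), (33, 8), (34, 8), (36, 8), (37, 8), (39, 8), (40, 8), (41, 8), (43, 8), (47, 5), (48, 5), (49, 5), (50, 5), (52, 11), (53, 5), (54, 5), (58, 5), (60, 5), (61, 5), (63, 5), (64, 5), (65, 5), (66, 5), (68, 5), (69, 5), (71, 5), (72, 5), (73, 5), (75, 5)],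
  [(1, 3), (2, 1), (3, 12), (4, 3), (5, 2), (6, 3), (7, 3), (9, 1), (10, 3), (11, 9), (12, 6), (14, 3), (19, 5), (23, 5), (24, 8), (25, 8), (27, 5), (31, 5), (32, 8), (33, 8), (34, 5), (36, 8), (37, 8), (39, 5), (40, 8), (41, 8), (43, 5), (47, 8), (48, 5), (49, 5), (50, 8), (52, 5), (53, 11), (54, 8), (58, 8), (60, 5), (61, 5), (63, 8), (64, 5), (65, 5), (66, 8), (68, 5), (69, 5), (71, 8), (72, 5), (73, 5), (75, 8)],
  [(1, 3), (2, 1), (3, 12), (4, 3), (5, 2), (6, 3), (7, 3), (9, 1), (10, 12), (11, 10), (12, 11), (13, 9), (14, 8), (19, 8), (23, 5), (24, 5), (25, 8), (27, 5), (31, 5), (32, 5), (33, 8), (34, 8), (36, 5), (37, 8), (39, 8), (40, 8), (41, 5), (43, 8), (47, 5), (48, 5), (49, 8), (50, 8), (52, 5), (53, 8), (54, 11), (58, 5), (60, 8), (61, 5), (63, 8), (64, 8), (65, 5), (66, 5), (68, 8), (69, 5), (71, 5), (72, 5), (73, 8), (75, 5)],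
  [(16, 3), (17, 10), (18, 10), (26, 3), (35, 10), (42, 10), (51, 10), (55, 6), (56, 10), (57, 3), (59, 3), (67, 3), (74, 3)],
  [(15, 10), (17, 3), (21, 10), (29, 3), (35, 10), (45, 10), (51, 10), (55, 10), (56, 6), (57, 3), (59, 3), (67, 3), (77, 3)],
  [(15, 10), (16, 3), (20, 10), (28, 3), (35, 3), (44, 10), (51, 3), (55, 3), (56, 3), (57, 6), (59, 10), (67, 10), (76, 3)],
  [(0, 4), (1, 10), (2, 8), (3, 1), (4, 1), (5, 11), (6, 1), (7, 1), (8, 4), (9, 7), (10, 1), (11, 8), (12, 11), (14, 10), (19, 5), (23, 5), (24, 8), (25, 5), (27, 5), (31, 8), (32, 5), (33, 8), (34, 5), (36, 5), (37, 8), (39, 8), (40, 5), (41, 8), (43, 8), (47, 8), (48, 5), (49, 8), (50, 5), (52, 5), (53, 8), (54, 5), (58, 11), (60, 5), (61, 8), (63, 5), (64, 8), (65, 5), (66, 8), (68, 8), (69, 5), (71, 5), (72, 8), (73, 5), (75, 5)],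
  [(18, 10), (20, 3), (21, 10), (22, 3), (35, 3), (38, 10), (51, 3), (55, 3), (56, 3), (57, 10), (59, 6), (67, 10), (70, 3)],
  [(0, 9), (1, 12), (2, 1), (3, 3), (4, 12), (5, 2), (6, 3), (7, 3), (9, 1), (10, 3), (11, 5), (12, 6), (14, 3), (19, 8), (23, 5), (24, 5), (25, 5), (27, 8), (31, 8), (32, 8), (33, 8), (34, 5), (36, 5), (37, 5), (39, 8), (40, 8), (41, 8), (43, 5), (47, 8), (48, 8), (49, 8), (50, 5), (52, 5), (53, 5), (54, 8), (58, 5), (60, 11), (61, 5), (63, 5), (64, 5), (65, 5), (66, 8), (68, 8), (69, 8), (71, 5), (72, 5), (73, 5), (75, 8)],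
  [(0, 4), (1, 1), (2, 12), (3, 10), (4, 1), (5, 2), (6, 1), (7, 5), (8, 9), (9, 12), (10, 1), (11, 12), (12, 2), (13, 9), (14, 10), (19, 5), (23, 8), (24, 5), (25, 5), (27, 5), (31, 5), (32, 8), (33, 8), (34, 8), (36, 5), (37, 5), (39, 5), (40, 8), (41, 8), (43, 8), (47, 5), (48, 8), (49, 8), (50, 8), (52, 5), (53, 5), (54, 5), (58, 8), (60, 5), (61, 11), (63, 8), (64, 5), (65, 5), (66, 5), (68, 8), (69, 8), (71, 8), (72, 5), (73, 5), (75, 5)],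
  [(22, 10), (26, 3), (28, 10), (29, 3), (30, 3), (35, 10), (46, 3), (51, 3), (62, 6), (70, 3), (74, 10), (76, 3), (77, 10)],
  [(1, 10), (2, 4), (3, 10), (4, 10), (5, 7), (6, 1), (7, 10), (9, 12), (10, 10), (11, 12), (12, 7), (14, 1), (19, 8), (23, 5), (24, 8), (25, 5), (27, 8), (31, 5), (32, 8), (33, 5), (34, 5), (36, 5), (37, 8), (39, 5), (40, 8), (41, 5), (43, 8), (47, 5), (48, 8), (49, 5), (50, 5), (52, 5), (53, 8), (54, 8), (58, 5), (60, 5), (61, 8), (63, 11), (64, 8), (65, 5), (66, 5), (68, 5), (69, 8), (71, 5), (72, 8), (73, 5), (75, 8)],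
  [(1, 1), (2, 3), (3, 1), (4, 10), (5, 11), (6, 1), (7, 1), (9, 12), (10, 10), (11, 3), (12, 6), (13, 4), (14, 1), (19, 8), (23, 8), (24, 5), (25, 5), (27, 8), (31, 8), (32, 5), (33, 5), (34, 8), (36, 5), (37, 5), (39, 8), (40, 5), (41, 5), (43, 8), (47, 8), (48, 5), (49, 5), (50, 8), (52, 5), (53, 5), (54, 8), (58, 8), (60, 5), (61, 5), (63, 8), (64, 11), (65, 5), (66, 8), (68, 5), (69, 5), (71, 8), (72, 5), (73, 5), (75, 8)],
  [(1, 12), (2, 10), (3, 12), (4, 3), (5, 11), (6, 3), (7, 7), (8, 4), (9, 1), (10, 12), (11, 1), (12, 2), (14, 12), (19, 5), (23, 5), (24, 5), (25, 5), (27, 5), (31, 5), (32, 5), (33, 5), (34, 5), (36, 5), (37, 5), (39, 5), (40, 5), (41, 5), (43, 5), (47, 5), (48, 5), (49, 5), (50, 5), (52, 5), (53, 5), (54, 5), (58, 5), (60, 5), (61, 5), (63, 5), (64, 5), (65, 11), (66, 5), (68, 5), (69, 5), (71, 5), (72, 5), (73, 5), (75, 5)],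
  [(0, 4), (1, 10), (2, 8), (3, 10), (4, 1), (5, 11), (6, 1), (7, 1), (9, 12), (10, 1), (11, 8), (12, 11), (14, 1), (19, 8), (23, 8), (24, 5), (25, 8), (27, 5), (31, 5), (32, 8), (33, 5), (34, 5), (36, 5), (37, 8), (39, 8), (40, 5), (41, 8), (43, 5), (47, 5), (48, 8), (49, 5), (50, 5), (52, 5), (53, 8), (54, 5), (58, 8), (60, 8), (61, 5), (63, 5), (64, 8), (65, 5), (66, 11), (68, 5), (69, 8), (71, 8), (72, 5), (73, 8), (75, 5)],
  [(30, 10), (35, 3), (38, 3), (42, 10), (44, 3), (45, 10), (46, 3), (51, 3), (55, 3), (56, 3), (57, 10), (59, 10), (67, 6)],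
  [(0, 9), (1, 12), (2, 1), (3, 12), (4, 12), (5, 2), (6, 3), (7, 3), (8, 4), (9, 1), (10, 3), (11, 5), (12, 6), (13, 8), (14, 7), (19, 5), (23, 8), (24, 8), (25, 8), (27, 8), (31, 5), (32, 5), (33, 5), (34, 5), (36, 5), (37, 5), (39, 8), (40, 8), (41, 8), (43, 8), (47, 5), (48, 5), (49, 5), (50, 5), (52, 5), (53, 5), (54, 8), (58, 8), (60, 8), (61, 8), (63, 5), (64, 5), (65, 5), (66, 5), (68, 11), (69, 5), (71, 8), (72, 8), (73, 8), (75, 8)],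
  [(0, 4), (1, 1), (2, 12), (3, 1), (4, 1), (5, 2), (6, 1), (7, 5), (8, 8), (9, 7), (10, 1), (11, 12), (12, 2), (13, 4), (14, 1), (19, 8), (23, 5), (24, 8), (25, 8), (27, 5), (31, 8), (32, 5), (33, 5), (34, 8), (36, 5), (37, 5), (39, 5), (40, 8), (41, 8), (43, 5), (47, 8), (48, 5), (49, 5), (50, 8), (52, 5), (53, 5), (54, 5), (58, 5), (60, 8), (61, 8), (63, 8), (64, 5), (65, 5), (66, 8), (68, 5), (69, 11), (71, 5), (72, 8), (73, 8), (75, 5)],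
  [(18, 3), (20, 10), (21, 3), (22, 10), (35, 3), (38, 3), (46, 10), (59, 3), (62, 3), (70, 6), (74, 3), (76, 10), (77, 3)],
  [(0, 9), (1, 12), (2, 1), (3, 12), (4, 12), (5, 2), (6, 3), (7, 3), (8, 4), (9, 1), (10, 12), (11, 1), (12, 11), (13, 9), (14, 12), (19, 8), (23, 8), (24, 5), (25, 8), (27, 8), (31, 5), (32, 8), (33, 5), (34, 8), (36, 8), (37, 5), (39, 5), (40, 8), (41, 5), (43, 5), (47, 8), (48, 5), (49, 8), (50, 5), (52, 5), (53, 8), (54, 5), (58, 5), (60, 5), (61, 8), (63, 5), (64, 8), (65, 5), (66, 8), (68, 8), (69, 5), (71, 11), (72, 8), (73, 5), (75, 5)],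
  [(0, 9), (1, 3), (2, 5), (3, 3), (4, 12), (5, 11), (6, 3), (7, 12), (8, 9), (9, 6), (10, 12), (11, 5), (12, 2), (14, 12), (19, 8), (23, 5), (24, 8), (25, 8), (27, 8), (31, 8), (32, 5), (33, 5), (34, 5), (36, 8), (37, 8), (39, 8), (40, 5), (41, 5), (43, 5), (47, 5), (48, 8), (49, 8), (50, 8), (52, 5), (53, 5), (54, 5), (58, 8), (60, 5), (61, 5), (63, 8), (64, 5), (65, 5), (66, 5), (68, 8), (69, 8), (71, 8), (72, 11), (73, 5), (75, 5)],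
  [(0, 4), (1, 10), (2, 8), (3, 10), (4, 1), (5, 11), (6, 1), (7, 1), (9, 12), (10, 10), (11, 12), (12, 11), (13, 9), (14, 6), (19, 5), (23, 8), (24, 8), (25, 8), (27, 5), (31, 5), (32, 5), (33, 5), (34, 8), (36, 8), (37, 8), (39, 5), (40, 5), (41, 5), (43, 8), (47, 8), (48, 8), (49, 8), (50, 5), (52, 5), (53, 5), (54, 8), (58, 5), (60, 5), (61, 5), (63, 5), (64, 5), (65, 5), (66, 8), (68, 8), (69, 8), (71, 5), (72, 5), (73, 11), (75, 8)],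
  [(16, 10), (17, 3), (18, 3), (26, 10), (35, 10), (42, 3), (46, 3), (55, 3), (62, 10), (70, 3), (74, 6), (76, 3), (77, 10)],
  [(1, 1), (2, 3), (3, 1), (4, 10), (5, 11), (6, 1), (7, 1), (9, 12), (10, 1), (11, 12), (12, 11), (14, 1), (19, 5), (23, 8), (24, 8), (25, 5), (27, 8), (31, 8), (32, 8), (33, 5), (34, 5), (36, 8), (37, 5), (39, 5), (40, 5), (41, 8), (43, 5), (47, 5), (48, 5), (49, 8), (50, 8), (52, 5), (53, 8), (54, 5), (58, 5), (60, 8), (61, 5), (63, 8), (64, 8), (65, 5), (66, 5), (68, 8), (69, 5), (71, 5), (72, 5), (73, 8), (75, 11)],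
  [(15, 3), (16, 10), (20, 3), (28, 10), (35, 3), (44, 3), (46, 10), (57, 3), (62, 3), (70, 10), (74, 3), (76, 6), (77, 3)],
  [(15, 3), (17, 10), (21, 3), (29, 10), (35, 10), (45, 3), (46, 3), (56, 3), (62, 10), (70, 3), (74, 10), (76, 3), (77, 6)]]

end Cfsg.Agent.Lib.Fi22Rep78
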