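import Cfsg.Prelude.Def_Spor_Fi22
import Cfsg.Agent.Lib.Fi22Rep78.Code
import Cfsg.Agent.Lib.Fi22Rep78.Data

/-! The presented group Fi22 has a nontrivial representation of degree 78 modulo 13. -/

set_option autoImplicit false

namespace Cfsg.Agent.Lib.Fi22Rep78

open Cfsg.Spor Cfsg.Spor.Fi22

def dat : Gen → List (List (ℕ × ℕ))
  | .a => gA
  | .b => gB
  | .c => gC
  | .d => gD
  | .e => gE
  | .f => gF
  | .g => gG
  | .h => gH
  | .i => gI

def allGens : List Gen := [.a, .b, .c, .d, .e, .f, .g, .h, .i]

theorem mem_allGens (x : Gen) : x ∈ allGens := by cases x <;> simp [allGens]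

/-- The word of a power of a product of generators. -/
def powWord (w : List Gen) : ℕ → List Gen
  | 0 => []
  | n + 1 => w ++ powWord w n

theorem sq_ok : (allGens.all fun x => isOneWord [dat x, dat x]) = true := by decide +kernel

theorem cox_ok : (allGens.all fun x => allGens.all fun y =>
    isOneWord ((powWord [x, y] (coxLabel edges x y)).map dat)) = true := by decide +kernel

theorem spider_ok : isOneWord ((powWord [.d, .c, .b, .d, .e, .f, .d, .h, .i] 10).map dat) = true := by
  decide +kernel

theorem e7a_ok : isOneWord ((powWord [.a, .b, .c, .d, .e, .f, .h] 9).map dat) = true := by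
  decide +kernel

theorem e7b_ok : isOneWord ((powWord [.b, .c, .d, .e, .f, .g, .h] 9).map dat) = true := by
  decide +kernel

theorem dat_mul_self (x : Gen) : genMat (dat x) * genMat (dat x) = 1 := by
  simpa using prod_eq_one (List.all_eq_true.1 sq_ok x (mem_allGens x))

/-- The generator images. -/
def img (x : Gen) : GL (Fin 78) (ZMod 13) :=
  ⟨genMat (dat x), genMat (dat x), dat_mul_self x, dat_mul_self x⟩

theorem prod_img {w : List Gen} (h : isOneWord (w.map dat) = true) : (w.map img).prod = 1 := by
  apply Units.ext
  rw [← Units.coeHom_apply, map_list_prod, List.map_map, Units.val_one]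
  have := prod_eq_one h
  rwa [List.map_map] at this

theorem prod_powWord (w : List Gen) (n : ℕ) : ((powWord w n).map img).prod = (w.map img).prod ^ n := by
  induction n with
  | zero => simp [powWord]
  | succ n ih => rw [powWord, List.map_append, List.prod_append, ih, pow_succ']

theorem exists_rep : ∃ f : Cfsg.Spor.Fi22 →* GL (Fin 78) (ZMod 13),
    f (PresentedGroup.of Gen.a) = img Gen.a := by
  have hrel : ∀ r ∈ coxRelators edges ∪ {r | r ∈ extra}, FreeGroup.lift img r = 1 := by
    rintro r (⟨x, -, y, -, rfl⟩ | hr)
    · rw [map_pow, map_mul, FreeGroup.lift_apply_of, FreeGroup.lift_apply_of]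
      have h := prod_img (List.all_eq_true.1 (List.all_eq_true.1 cox_ok x (mem_allGens x)) y (mem_allGens y))
      rw [prod_powWord] at h
      simpa using h
    · have h1 := prod_img spider_ok
      have h2 := prod_img e7a_ok
      have h3 := prod_img e7b_ok
      rw [prod_powWord] at h1 h2 h3
      simp only [Set.mem_ofPred_eq, extra, List.mem_cons, List.mem_nil_iff, or_false] at hr
      rcases hr with rfl | rfl | rfl
      · simpa [mul_assoc] using h1
      · simpa [mul_assoc] using h2
      · simpa [mul_assoc] using h3
  exact ⟨PresentedGroup.toGroup hrel, PresentedGroup.toGroup.of hrel⟩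

theorem img_a_ne_one : img Gen.a ≠ 1 := by
  intro h
  have e : genMat gA = 1 := congrArg Units.val h
  have h1 : evalCode msk 2496 oneN [gA] = oneN := by
    rw [evalCode_eq _ (by decide +kernel), oneN, oneCode_eq]
    simp [e]
  revert h1
  decide +kernel

end Cfsg.Agent.Lib.Fi22Rep78
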